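import Cfsg.Agent.HN.Rep
import Cfsg.Agent.HN.H0Basic
import Cfsg.Agent.Omega.Lie.HeisCover
import Cfsg.Agent.Mrg.Omega.EH3.Rank1.Suz
import Cfsg.Agent.KFacts.HN.Sheet
import Cfsg.Agent.S1701
import Cfsg.Agent.KFacts.HS.Sheet2_m3
import Cfsg.Agent.Lib.PackCol
import Cfsg.Agent.KFacts.MulSpor.CoThree
import Cfsg.Agent.Omega.KFacts_m3
import Cfsg.Agent.OddHalf.D8.RowCo3
import Cfsg.Agent.FastGrp
import Cfsg.Agent.Prune
set_option linter.all false

section
prune_inst 0x7f00000000000000000000000000000000000000000000000000000000000000000000000000000000000000000000000000000000000000000000000000000000000000000000000000000000000000003fffffffffffffffffffffffffffbeffbdffffffff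

-- part: Mrg/Omega/TwoF/RowHN
section
set_option linter.all false
open scoped Cfsg.Agent.FastGrp

-- merged: Cfsg.Agent.Omega.TwoF.HN5.Rel
section

set_option autoImplicit false

/-!
# TABLE 2F, row `HN`: one relation in the Harada–Norton group (helper473)

`s t s⁻¹ t⁻¹ = z₀`, `s = h⁻¹ t h`, `h = z y z y x⁻¹ y z`, `z₀ ∈ ⟨x, y⟩`, checked in the 133-dimensional representation.
-/

namespace Cfsg.Agent.Omega.TwoF.RowHN

open Cfsg.Agent.Lib.PackMat Cfsg.Agent.Lib.PackMatGroup Cfsg.Agent.HN.RepData
open Cfsg.Agent.HN.Rep (L LG gens rho good one_lt codes rho_word)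

/-- the word `h` -/
def wh : List ℕ := [4, 2, 4, 2, 1, 2, 4]
/-- the word `h⁻¹` -/
def whi : List ℕ := [4, 3, 0, 3, 4, 3, 4]
/-- the word `z₀` -/
def wz : List ℕ := [0, 2, 2, 0, 2, 0, 2, 0, 3, 0, 3, 3, 0, 3, 0, 3, 0, 2]
/-- the word `z₀⁻¹` -/
def wzi : List ℕ := [3, 1, 2, 1, 2, 1, 2, 2, 1, 2, 1, 3, 1, 3, 1, 3, 3, 1]
/-- the relator -/
def wr : List ℕ := whi ++ [6] ++ wh ++ [6] ++ whi ++ [7] ++ wh ++ [7] ++ wzi

private theorem sub_sc28 {C : Cfsg.Agent.Lib.PackMat.Cfg} {w : List ℕ} {c n lo cnt : ℕ} (h : Cfsg.Agent.Lib.PackMat.checkScalar C w c 0 n = true)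
    (hn : Nat.beq n C.n = true) (hle : Nat.ble (lo + cnt) n = true) : Cfsg.Agent.Lib.PackMat.checkScalar C w c lo cnt = true := by
  obtain rfl := Nat.eq_of_beq_eq_true hn
  unfold Cfsg.Agent.Lib.PackMat.checkScalar
  rw [hle, cond_true]
  exact Cfsg.Agent.Lib.PackCol.checkScalarK_of cnt lo (Nat.le_of_ble_eq_true hle) fun i hi =>
    Cfsg.Agent.Lib.PackMat.checkScalar_spec h i (Nat.zero_le _) (by omega)

private theorem all28_1 : checkScalar C (cw L wr) 1 0 133 = true := by (rewrite [Cfsg.Agent.Lib.PackCol.checkScalar_col]; decide +kernel)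
theorem c0 : checkScalar C (cw L wr) 1 0 19 = true := sub_sc28 all28_1 (by decide +kernel) (by decide)
theorem c1 : checkScalar C (cw L wr) 1 19 19 = true := sub_sc28 all28_1 (by decide +kernel) (by decide)
theorem c2 : checkScalar C (cw L wr) 1 38 19 = true := sub_sc28 all28_1 (by decide +kernel) (by decide)
theorem c3 : checkScalar C (cw L wr) 1 57 19 = true := sub_sc28 all28_1 (by decide +kernel) (by decide)
theorem c4 : checkScalar C (cw L wr) 1 76 19 = true := sub_sc28 all28_1 (by decide +kernel) (by decide)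
theorem c5 : checkScalar C (cw L wr) 1 95 19 = true := sub_sc28 all28_1 (by decide +kernel) (by decide)
theorem c6 : checkScalar C (cw L wr) 1 114 19 = true := sub_sc28 all28_1 (by decide +kernel) (by decide)

theorem relM : evG LG wr = 1 := by
  refine eq_one_of_rows good one_lt codes (by decide) fun i hi => ?_
  have hi' : i < 133 := hi
  rcases lt_or_ge i 19 with h0 | h0
  · exact checkScalar_spec c0 i (Nat.zero_le _) h0
  rcases lt_or_ge i 38 with h1 | h1
  · exact checkScalar_spec c1 i h0 h1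
  rcases lt_or_ge i 57 with h2 | h2
  · exact checkScalar_spec c2 i h1 h2
  rcases lt_or_ge i 76 with h3 | h3
  · exact checkScalar_spec c3 i h2 h3
  rcases lt_or_ge i 95 with h4 | h4
  · exact checkScalar_spec c4 i h3 h4
  rcases lt_or_ge i 114 with h5 | h5
  · exact checkScalar_spec c5 i h4 h5
  exact checkScalar_spec c6 i h5 (by omega)

theorem z_neM : evG LG wz ≠ 1 := by
  refine ne_of_row good codes (w₂ := []) (by decide) (by decide) (R := unitRow C 1 0)
    (unitRow_ok (C := C) (c := 1) (i := 0) (good_of_check good) one_lt (by decide)).1 ?_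
  intro h
  have h1 : Nat.beq (run C (cw L wz) (unitRow C 1 0)) (run C (cw L []) (unitRow C 1 0)) = false := by decide +kernel
  rw [h, Nat.beq_refl] at h1
  exact absurd h1 (by simp)

/-- the representation is faithful -/
theorem rho_injective (hs : IsSimpleGroup Cfsg.Spor.HN) : Function.Injective rho := by
  rw [← MonoidHom.ker_eq_bot_iff]
  rcases (inferInstance : rho.ker.Normal).eq_bot_or_eq_top with h | h
  · exact h
  · exfalso
    apply z_neM
    rw [← rho_word, ← MonoidHom.mem_ker, h]
    exact Subgroup.mem_top _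

/-- the relation -/
theorem rel (hs : IsSimpleGroup Cfsg.Spor.HN) : evG gens wr = 1 := by
  apply rho_injective hs
  rw [rho_word, relM, map_one]

theorem z_ne : evG gens wz ≠ 1 := by
  intro h
  apply z_neM
  rw [← rho_word, h, map_one]

end Cfsg.Agent.Omega.TwoF.RowHN

end

-- merged: Cfsg.Agent.Omega.TwoF.HN5.Heis
section

set_option autoImplicit false

/-!
# TABLE 2F, row `HN`: an extraspecial group of order `5^5` in the Harada–Norton group (helper473)
-/

namespace Cfsg.Agent.Omega.TwoF.RowHN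

open Cfsg.Agent.HN Cfsg.Agent.HN.Pres Cfsg.Agent.HN.P1408 Cfsg.Agent.HN.H0Basic
open Cfsg.Agent.Omega.Lie.Heis
open Cfsg.Agent.Lib.PackMatGroup (evG evG_append evG_cons evG_nil)

/-- the map from `H0` -/
def psi : H0 →* Cfsg.Spor.HN := lift rels_HN

theorem psi_x : psi gx = Pres.hx := lift_gx _
theorem psi_y : psi gy = Pres.hy := lift_gy _
theorem psi_z : psi gz = Pres.hz := lift_gz _

theorem t5 : ht ^ 5 = 1 := mk_extra (by simp only [Cfsg.Spor.HN.extra, _root_.Cfsg.Spor.HN.extra, _root_.mul_inv_rev, _root_.inv_inv, _root_.List.mem_cons, _root_.List.not_mem_nil, _root_.or_false, _root_.true_or, _root_.or_true])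
theorem xt : (hx⁻¹ * ht * hx) * ht ^ 2 = 1 := mk_extra (by simp only [Cfsg.Spor.HN.extra, _root_.Cfsg.Spor.HN.extra, _root_.mul_inv_rev, _root_.inv_inv, _root_.List.mem_cons, _root_.List.not_mem_nil, _root_.or_false, _root_.true_or, _root_.or_true])
theorem ty : ht⁻¹ * hy⁻¹ * ht * hy = 1 := mk_extra (by simp only [Cfsg.Spor.HN.extra, _root_.Cfsg.Spor.HN.extra, _root_.mul_inv_rev, _root_.inv_inv, _root_.List.mem_cons, _root_.List.not_mem_nil, _root_.or_false, _root_.true_or, _root_.or_true])

/-- a word of `H0` in `HN` -/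
def pw (a : List ℕ) : Cfsg.Spor.HN := psi (hw a)

theorem pw_append (a c : List ℕ) : pw (a ++ c) = pw a * pw c := by rw [pw, hw_append, map_mul]; rfl
theorem pw_nil : pw [] = 1 := by rw [pw, hw_nil, map_one]
theorem pw_eq {a c : List ℕ} (h : eqw a c = true) : pw a = pw c := congrArg psi (hw_eq h)
theorem pw_iw (a : List ℕ) : pw (iw a) = (pw a)⁻¹ := by rw [pw, hw_iw, map_inv]; rfl

theorem pw_pow (a : List ℕ) (n : ℕ) : pw (List.replicate n a).flatten = pw a ^ n := by
  induction n with
  | zero => rw [List.replicate_zero, List.flatten_nil, pw_nil, pow_zero]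
  | succ n ih => rw [List.replicate_succ, List.flatten_cons, pw_append, ih, pow_succ']

/-- the exponent by which a word in `x`, `y` acts on `t` -/
def ex : List ℕ → ℕ
  | [] => 1
  | l :: a => (if l = 0 then 3 else if l = 1 then 2 else if l = 2 then 1 else if l = 3 then 1 else 0) * ex a % 5

theorem conj_letter {l : ℕ} (hl : l < 4) :
    (pw [l])⁻¹ * ht * pw [l] = ht ^ (if l = 0 then 3 else if l = 1 then 2 else if l = 2 then 1 else if l = 3 then 1 else 0) := by
  have hx1 : hx⁻¹ * ht * hx = ht ^ 3 := by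
    have h1 := xt
    rw [← eq_mul_inv_iff_mul_eq, one_mul] at h1
    rw [h1, inv_eq_iff_mul_eq_one, ← pow_add]
    exact t5
  have hy1 : hy⁻¹ * ht * hy = ht := by
    have h1 := ty
    rw [mul_assoc, mul_assoc, inv_mul_eq_one] at h1
    rw [mul_assoc]
    exact h1.symm
  have e : ∀ l, pw [l] = letG hx hy hz l := by
    intro l
    rw [pw, hw, ev_cons, ev_nil, mul_one, map_letG, psi_x, psi_y, psi_z]
  rw [e]
  have h0 : l = 0 ∨ l = 1 ∨ l = 2 ∨ l = 3 := by omega
  rcases h0 with rfl | rfl | rfl | rfl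
  · exact hx1
  · change hx⁻¹⁻¹ * ht * hx⁻¹ = ht ^ 2
    rw [inv_inv]
    have h1 : hx⁻¹ * ht ^ 2 * hx = ht := by
      have h2 : hx⁻¹ * ht ^ 2 * hx = (hx⁻¹ * ht * hx) ^ 2 := by rw [pow_two, pow_two]; group
      rw [h2, hx1, ← pow_mul]
      change ht ^ 6 = ht
      rw [pow_succ, t5, one_mul]
    have h3 : ht = hx * (hx⁻¹ * ht * hx) * hx⁻¹ := by group
    calc hx * ht * hx⁻¹ = hx * (hx⁻¹ * ht ^ 2 * hx) * hx⁻¹ := by rw [h1]
      _ = ht ^ 2 := by group
  · change hy⁻¹ * ht * hy = ht ^ 1
    rw [pow_one, hy1]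
  · change hy⁻¹⁻¹ * ht * hy⁻¹ = ht ^ 1
    rw [inv_inv, pow_one]
    calc hy * ht * hy⁻¹ = hy * (hy⁻¹ * ht * hy) * hy⁻¹ := by rw [hy1]
      _ = ht := by group

theorem conj_word (a : List ℕ) (ha : ∀ l ∈ a, l < 4) : (pw a)⁻¹ * ht * pw a = ht ^ ex a := by
  induction a with
  | nil => rw [pw_nil, ex, inv_one, one_mul, mul_one, pow_one]
  | cons l a ih =>
    have h1 : pw (l :: a) = pw [l] * pw a := pw_append [l] a
    have h2 := conj_letter (ha l (List.mem_cons_self ..))
    have h3 := ih fun m hm => ha m (List.mem_cons_of_mem _ hm)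
    rw [h1]
    set k := (if l = 0 then 3 else if l = 1 then 2 else if l = 2 then 1 else if l = 3 then 1 else 0) with hk
    calc (pw [l] * pw a)⁻¹ * ht * (pw [l] * pw a) = (pw a)⁻¹ * ((pw [l])⁻¹ * ht * pw [l]) * pw a := by group
      _ = (pw a)⁻¹ * ht ^ k * pw a := by rw [h2]
      _ = ((pw a)⁻¹ * ht * pw a) ^ k := by
          have : (pw a)⁻¹ * ht * pw a = (pw a)⁻¹ * ht * (pw a)⁻¹⁻¹ := by rw [inv_inv]
          rw [this, conj_pow, inv_inv]
      _ = (ht ^ ex a) ^ k := by rw [h3]
      _ = ht ^ (k * ex a) := by rw [← pow_mul, mul_comm]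
      _ = ht ^ ex (l :: a) := by
          rw [ex, ← hk]
          conv_lhs => rw [← Nat.mod_add_div (k * ex a) 5, pow_add, pow_mul ht 5, t5, one_pow, mul_one]

theorem comm_t {a : List ℕ} (ha : (a.all fun l => decide (l < 4)) = true) (h : ex a = 1) : pw a * ht = ht * pw a := by
  have h1 := conj_word a (fun l hl => of_decide_eq_true (List.all_eq_true.1 ha l hl))
  rw [h, pow_one, mul_assoc, inv_mul_eq_iff_eq_mul] at h1
  exact h1.symm

/-! ### the words -/

/-- the word `x₂` -/
def wx : List ℕ := [3, 0, 2, 0, 2, 0, 3, 3, 0]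
/-- the word `y₂` -/
def wy : List ℕ := [0, 3, 3, 0, 3, 0, 0]
/-- `h z₀ h⁻¹` -/
def wzh : List ℕ := [2, 0, 2, 0, 2, 2, 0, 3, 3, 0, 3, 0, 3, 0, 2, 0, 2, 0, 2, 2, 2, 0, 2, 0, 2, 0, 0]
/-- `h x₂ h⁻¹` -/
def wxh : List ℕ := [2, 2, 0, 2, 2, 2, 0, 3, 0, 3, 0, 3, 3, 0, 3, 0, 3, 3, 0, 0]

theorem k1 : eqw (List.replicate 5 wz).flatten [] = true := by decide +kernel
theorem k2 : eqw (List.replicate 5 wx).flatten [] = true := by decide +kernel
theorem k3 : eqw (wz ++ wx) (wx ++ wz) = true := by decide +kernel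
theorem k4 : eqw (wz ++ wy) (wy ++ wz) = true := by decide +kernel
theorem k5 : eqw (wy ++ wx) (wx ++ wz ++ wy) = true := by decide +kernel
theorem k6 : eqw (wh ++ wz) (wzh ++ wh) = true := by decide +kernel
theorem k7 : eqw (wh ++ wx) (wxh ++ wh) = true := by decide +kernel

/-- the element `s = h⁻¹ t h` -/
def sE : Cfsg.Spor.HN := (pw wh)⁻¹ * ht * pw wh

theorem tz : ht * pw wz = pw wz * ht := (comm_t (by decide) (by decide)).symm
theorem tx : ht * pw wx = pw wx * ht := (comm_t (by decide) (by decide)).symm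
theorem tY : ht * pw wy = pw wy * ht := (comm_t (by decide) (by decide)).symm

theorem s_comm {a c : List ℕ} (h1 : pw wh * pw a = pw c * pw wh) (h2 : ht * pw c = pw c * ht) :
    sE * pw a = pw a * sE := by
  have h3 : pw a = (pw wh)⁻¹ * pw c * pw wh := by rw [mul_assoc, ← h1]; group
  rw [h3, sE]
  calc (pw wh)⁻¹ * ht * pw wh * ((pw wh)⁻¹ * pw c * pw wh) = (pw wh)⁻¹ * (ht * pw c) * pw wh := by group
    _ = (pw wh)⁻¹ * (pw c * ht) * pw wh := by rw [h2]
    _ = _ := by group

theorem sz : sE * pw wz = pw wz * sE :=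
  s_comm (c := wzh) (by rw [← pw_append, ← pw_append]; exact pw_eq k6) (comm_t (by decide) (by decide)).symm
theorem sx : sE * pw wx = pw wx * sE :=
  s_comm (c := wxh) (by rw [← pw_append, ← pw_append]; exact pw_eq k7) (comm_t (by decide) (by decide)).symm

/-- words in the letters `x`, `y`, `z` -/
theorem evG_gens (a : List ℕ) (ha : ∀ l ∈ a, l < 5) : evG Rep.gens a = pw a := by
  induction a with
  | nil => rw [evG_nil, pw_nil]
  | cons l a ih =>
    have h1 : pw (l :: a) = pw [l] * pw a := pw_append [l] a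
    rw [evG_cons, ih fun m hm => ha m (List.mem_cons_of_mem _ hm), h1]
    congr 1
    have h2 := ha l (List.mem_cons_self ..)
    rw [pw, hw, ev_cons, ev_nil, mul_one, map_letG, psi_x, psi_y, psi_z]
    have h0 : l = 0 ∨ l = 1 ∨ l = 2 ∨ l = 3 ∨ l = 4 := by omega
    rcases h0 with rfl | rfl | rfl | rfl | rfl <;> rfl

theorem st (hs : IsSimpleGroup Cfsg.Spor.HN) : sE * ht * sE⁻¹ = ht * pw wz := by
  have h1 := rel hs
  have e6 : evG Rep.gens [6] = ht := by rw [evG_cons, evG_nil, mul_one]; rfl
  have e7 : evG Rep.gens [7] = ht⁻¹ := by rw [evG_cons, evG_nil, mul_one]; rfl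
  have eh : evG Rep.gens wh = pw wh := evG_gens _ (by decide)
  have ei : evG Rep.gens whi = (pw wh)⁻¹ := by
    rw [evG_gens _ (by decide), ← pw_iw]
    exact pw_eq (by decide +kernel)
  have ez : evG Rep.gens wzi = (pw wz)⁻¹ := by
    rw [evG_gens _ (by decide), ← pw_iw]
    rfl
  rw [wr, evG_append, evG_append, evG_append, evG_append, evG_append, evG_append, evG_append, evG_append, e6, e7, eh,
    ei, ez] at h1
  have h2 : sE * ht * sE⁻¹ * ht⁻¹ * (pw wz)⁻¹ = 1 := by
    rw [← h1, sE]; group
  rw [mul_inv_eq_one, mul_inv_eq_iff_eq_mul] at h2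
  rw [h2, tz]

theorem z_ne' : pw wz ≠ 1 := by
  rw [← evG_gens wz (by decide)]
  exact z_ne

/-- **the Heisenberg configuration** -/
theorem heis (hs : IsSimpleGroup Cfsg.Spor.HN) : Heis 5 2 (pw wz) ![ht, pw wx] ![sE, pw wy] where
  prime := by norm_num
  zr := by rw [← pw_pow, pw_eq k1, pw_nil]
  xr := by
    intro i
    fin_cases i
    · exact t5
    · change pw wx ^ 5 = 1
      rw [← pw_pow, pw_eq k2, pw_nil]
  zx := by
    intro i
    fin_cases i
    · exact tz.symm
    · change pw wz * pw wx = pw wx * pw wz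
      rw [← pw_append, ← pw_append]
      exact pw_eq k3
  zy := by
    intro i
    fin_cases i
    · exact sz.symm
    · change pw wz * pw wy = pw wy * pw wz
      rw [← pw_append, ← pw_append]
      exact pw_eq k4
  xx := by
    intro i j
    fin_cases i <;> fin_cases j
    · rfl
    · exact tx
    · exact tx.symm
    · rfl
  yx := by
    intro i j h
    fin_cases i <;> fin_cases j
    · exact absurd rfl h
    · exact sx
    · exact tY.symm
    · exact absurd rfl h
  conj := by
    intro i
    fin_cases i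
    · exact st hs
    · change pw wy * pw wx * (pw wy)⁻¹ = pw wx * pw wz
      rw [mul_inv_eq_iff_eq_mul, ← pw_append, ← pw_append, ← pw_append]
      exact pw_eq k5

end Cfsg.Agent.Omega.TwoF.RowHN

end

-- merged: Cfsg.Agent.Mrg.Omega.TwoF.RowHN
section

section


set_option autoImplicit false

/-!
# TABLE 2F, row `HN` (helper473)

`LB 36` through an explicit `5^{1+4}` (`Omega.TwoF.HN5`), `RK 16` through the order of the automorphism group.
-/

namespace Cfsg.Agent.Omega.TwoF.RowHN

open Cfsg.Agent.HN.P1408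

universe u v w

theorem orderOf_two_five : orderOf (2 : ZMod 5) = 4 := by
  refine orderOf_eq_prime_pow (p := 2) (n := 1) ?_ ?_ <;> decide

theorem orderOf_two_nineteen : orderOf (2 : ZMod 19) = 18 := by
  refine orderOf_eq_of_pow_and_pow_div_prime (by norm_num) (by decide) ?_
  intro p hp hd
  have h1 : p ∈ Nat.divisors 18 := Nat.mem_divisors.2 ⟨hd, by norm_num⟩
  have h2 : Nat.divisors 18 = {1, 2, 3, 6, 9, 18} := by decide
  rw [h2] at h1
  simp only [Finset.mem_insert, Finset.mem_singleton] at h1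
  rcases h1 with rfl | rfl | rfl | rfl | rfl | rfl
  · exact absurd hp (by norm_num)
  · decide
  · decide
  · exact absurd hp (by norm_num)
  · exact absurd hp (by norm_num)
  · exact absurd hp (by norm_num)

theorem finite_HN : Finite Cfsg.Spor.HN :=
  Nat.finite_of_card_ne_zero (by rw [Cfsg.Agent.S1701.result.2]; norm_num)

theorem lb : Lie.Heis.LB.{0, v, w} Cfsg.Spor.HN 36 := by
  have hs := Cfsg.Agent.S1701.result.1
  have := finite_HN
  refine Lie.Heis.LB.heis (heis hs) (by norm_num) z_ne' (p := 19) (by norm_num) (by norm_num) ?_ ?_ ?_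
  · rw [Cfsg.Agent.S1701.result.2]; norm_num
  · rw [orderOf_two_five]; norm_num
  · rw [orderOf_two_five, orderOf_two_nineteen]; decide

theorem center_eq_bot : Subgroup.center Cfsg.Spor.HN = ⊥ := by
  have hs := Cfsg.Agent.S1701.result.1
  rcases (inferInstance : (Subgroup.center Cfsg.Spor.HN).Normal).eq_bot_or_eq_top with h1 | h1
  · exact h1
  · exfalso
    have h2 : ∀ a c : Cfsg.Spor.HN, a * c = c * a := by
      intro a c
      have h3 : c ∈ Subgroup.center Cfsg.Spor.HN := by rw [h1]; exact Subgroup.mem_top _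
      exact Subgroup.mem_center_iff.1 h3 a
    have h3 := st hs
    rw [h2 sE, mul_inv_cancel_right, eq_comm, mul_eq_left] at h3
    exact z_ne' h3

theorem rk : Rk.RK.{v} Cfsg.Spor.HN 16 := by
  have := finite_HN
  refine Rk.rk_of_elt (e := 15) (k := 0) ?_ 1 (by rw [orderOf_one, pow_zero]) (by norm_num)
  have hc : Nat.card Cfsg.Spor.HN = 2 ^ 14 * 16664484375 := by
    rw [Cfsg.Agent.S1701.result.2]
    norm_num
  rcases Cfsg.Agent.KFacts.HN.out_index with h | h
  · have h1 := Rk.card_mulAut center_eq_bot h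
    rw [h1, hc, one_mul, Nat.factorization_mul (by norm_num) (by norm_num),
      Nat.Prime.factorization_pow Nat.prime_two, Finsupp.add_apply, Finsupp.single_eq_same,
      Nat.factorization_eq_zero_of_not_dvd (by norm_num)]
    norm_num
  · have h1 := Rk.card_mulAut center_eq_bot h
    have h2 : (2 * (2 ^ 14 * 16664484375) : ℕ) = 2 ^ 15 * 16664484375 := by norm_num
    rw [h1, hc, h2, Nat.factorization_mul (by norm_num) (by norm_num),
      Nat.Prime.factorization_pow Nat.prime_two, Finsupp.add_apply, Finsupp.single_eq_same,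
      Nat.factorization_eq_zero_of_not_dvd (by norm_num)]

theorem dead : Dead2.{u} Cfsg.Spor.HN :=
  have := finite_HN
  Dead2.of_lb (LB.of_heis lb) (RK.of_rk center_eq_bot rk) (by norm_num)

/-- **the row `HN` of TABLE 2F** -/
theorem row (K : Type u) [Group K] (h : Cfsg.Spor.IsoHN K) : Kill2.{u} K := by
  obtain ⟨e⟩ := h
  have hs := Cfsg.Agent.S1701.result.1
  exact (dead.kill center_eq_bot inferInstance).equiv e

end Cfsg.Agent.Omega.TwoF.RowHN

end

section


set_option autoImplicit false

/-!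
# TABLE 2F, row `HS` (helper473)

`LB 20` through an explicit `5^{1+2}`, `RK 8` through an element of order 8.
-/

namespace Cfsg.Agent.Omega.TwoF.RowHS

open Cfsg.Agent.HN Cfsg.Agent.HN.Pres Cfsg.Agent.HN.HS100 Cfsg.Agent.HN.H0Basic
open Cfsg.Agent.KFacts.HS Cfsg.Agent.KFacts.HS.Cent
open Cfsg.Agent.HN.P1408 hiding U
open Cfsg.Agent.Omega.Lie.Heis

universe u v w

/-! ### words -/

/-- an element of order 5 -/
def xw : List ℕ := [0, 2, 0, 2, 2, 0, 0]
/-- an element of order 5 -/
def yw : List ℕ := [0, 3, 0, 2, 0, 2, 0, 3, 3]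
/-- the commutator -/
def zw : List ℕ := iw xw ++ yw ++ xw ++ iw yw
/-- an element of order 8 -/
def gw : List ℕ := [0, 2]

theorem xw_mem : hw xw ∈ K := mem_K_of_par (by decide) (by decide)
theorem yw_mem : hw yw ∈ K := mem_K_of_par (by decide) (by decide)
theorem zw_mem : hw zw ∈ K := mem_K_of_par (by decide) (by decide)
theorem gw_mem : hw gw ∈ K := mem_K_of_par (by decide) (by decide)

theorem pow_eq {a : List ℕ} {n : ℕ} (h : eqw (List.replicate n a).flatten [] = true) : hw a ^ n = 1 := by
  have h1 : ∀ n : ℕ, hw (List.replicate n a).flatten = hw a ^ n := by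
    intro n
    induction n with
    | zero => rw [List.replicate_zero, List.flatten_nil, hw_nil, pow_zero]
    | succ n ih => rw [List.replicate_succ, List.flatten_cons, hw_append, ih, pow_succ']
  rw [← h1, hw_eq h, hw_nil]

theorem comm_eq {a c : List ℕ} (h : eqw (a ++ c) (c ++ a) = true) : hw a * hw c = hw c * hw a := by
  rw [← hw_append, ← hw_append]
  exact hw_eq h

theorem z_eq : hw zw = (hw xw)⁻¹ * hw yw * hw xw * (hw yw)⁻¹ := by
  rw [zw, hw_append, hw_append, hw_append, hw_iw, hw_iw]

theorem z5 : hw zw ^ 5 = 1 := pow_eq (by decide +kernel)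
theorem x5 : hw xw ^ 5 = 1 := pow_eq (by decide +kernel)
theorem zx : hw zw * hw xw = hw xw * hw zw := comm_eq (by decide +kernel)
theorem zy : hw zw * hw yw = hw yw * hw zw := comm_eq (by decide +kernel)
theorem z_ne : eqw zw [] = false ∧ eqw zw [0, 0] = false := by decide +kernel
theorem g_ne : eqw [0, 2, 0, 2, 0, 2, 0, 2] [] = false ∧ eqw [0, 2, 0, 2, 0, 2, 0, 2] [0, 0] = false := by decide +kernel
theorem g8 : eqw (List.replicate 8 gw).flatten [] = true := by decide +kernel

/-! ### the Heisenberg configuration -/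

section

variable {L : Type u} [Group L] (D : KFacts.HS.Mod L)

/-- the element `x` -/
def xL : L := D.π ⟨hw xw, xw_mem⟩
/-- the element `y` -/
def yL : L := D.π ⟨hw yw, yw_mem⟩
/-- the element `z` -/
def zL : L := D.π ⟨hw zw, zw_mem⟩
/-- the element of order 8 -/
def gL : L := D.π ⟨hw gw, gw_mem⟩

theorem heis : Heis 5 1 (zL D) (fun _ => xL D) (fun _ => yL D) where
  prime := by norm_num
  zr := by
    rw [zL, ← map_pow, Mod.π_eq_one]
    exact Or.inl z5
  xr := fun _ => by
    rw [xL, ← map_pow, Mod.π_eq_one]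
    exact Or.inl x5
  zx := fun _ => by
    rw [zL, xL, ← map_mul, ← map_mul]
    exact congrArg D.π (Subtype.ext zx)
  zy := fun _ => by
    rw [zL, yL, ← map_mul, ← map_mul]
    exact congrArg D.π (Subtype.ext zy)
  xx := fun _ _ => rfl
  yx := fun i j h => absurd (Subsingleton.elim i j) h
  conj := fun _ => by
    rw [zL, yL, xL, ← map_inv, ← map_mul, ← map_mul, ← map_mul]
    refine congrArg D.π (Subtype.ext ?_)
    change hw yw * hw xw * (hw yw)⁻¹ = hw xw * hw zw
    rw [z_eq]
    group

theorem zL_ne : zL D ≠ 1 := by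
  rw [zL, Ne, Mod.π_eq_one]
  rintro (h | h)
  · rw [← hw_nil] at h
    exact Bool.noConfusion ((eqw_of_hw_eq (by decide) (by decide) h).symm.trans z_ne.1)
  · rw [← hw_τ] at h
    exact Bool.noConfusion ((eqw_of_hw_eq (by decide) (by decide) h).symm.trans z_ne.2)

theorem orderOf_g : orderOf (gL D) = 2 ^ 3 := by
  apply orderOf_eq_prime_pow
  · intro h
    rw [gL, ← map_pow, Mod.π_eq_one] at h
    have h1 : ((⟨hw gw, gw_mem⟩ : K) ^ 2 ^ 2 : K) = (⟨hw [0, 2, 0, 2, 0, 2, 0, 2], by
        exact mem_K_of_par (by decide) (by decide)⟩ : K) := by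
      apply Subtype.ext
      change hw gw ^ 4 = hw [0, 2, 0, 2, 0, 2, 0, 2]
      have h2 : [0, 2, 0, 2, 0, 2, 0, 2] = gw ++ gw ++ gw ++ gw := rfl
      rw [h2, hw_append, hw_append, hw_append, pow_succ, pow_succ, pow_succ, pow_one]
    rw [h1] at h
    rcases h with h | h
    · change hw _ = 1 at h
      rw [← hw_nil] at h
      exact Bool.noConfusion ((eqw_of_hw_eq (by decide) (by decide) h).symm.trans g_ne.1)
    · change hw _ = τ at h
      rw [← hw_τ] at h
      exact Bool.noConfusion ((eqw_of_hw_eq (by decide) (by decide) h).symm.trans g_ne.2)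
  · rw [gL, ← map_pow, Mod.π_eq_one]
    exact Or.inl (pow_eq g8)

theorem orderOf_two_five : orderOf (2 : ZMod 5) = 4 := by
  refine orderOf_eq_prime_pow (p := 2) (n := 1) ?_ ?_ <;> decide

theorem orderOf_two_eleven : orderOf (2 : ZMod 11) = 10 := by
  refine orderOf_eq_of_pow_and_pow_div_prime (by norm_num) (by decide) ?_
  intro p hp hd
  have h1 : p ∈ Nat.divisors 10 := Nat.mem_divisors.2 ⟨hd, by norm_num⟩
  have h2 : Nat.divisors 10 = {1, 2, 5, 10} := by decide
  rw [h2] at h1
  simp only [Finset.mem_insert, Finset.mem_singleton] at h1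
  rcases h1 with rfl | rfl | rfl | rfl
  · exact absurd hp (by norm_num)
  · decide
  · decide
  · exact absurd hp (by norm_num)

end

theorem simple {L : Type u} [Group L] (h : Cfsg.Spor.IsoHS L) : IsSimpleGroup L := by
  obtain ⟨⟨f⟩, h1⟩ := AutHS.nonempty_Q
  obtain ⟨e⟩ := h
  have hn : Nontrivial L := (f.trans e.symm).symm.toEquiv.nontrivial
  exact IsSimpleGroup.isSimpleGroup_of_surjective (f.trans e.symm).toMonoidHom (f.trans e.symm).surjective

theorem lb {L : Type u} [Group L] (h : Cfsg.Spor.IsoHS L) : Lie.Heis.LB.{u, v, w} L 20 := by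
  obtain ⟨D⟩ := exists_mod h
  have hfin := D.finite
  have hs := simple h
  refine Lie.Heis.LB.heis (heis D) (by norm_num) (zL_ne D) (p := 11) (by norm_num) (by norm_num) ?_ ?_ ?_
  · rw [D.card]; norm_num
  · rw [orderOf_two_five]; norm_num
  · rw [orderOf_two_five, orderOf_two_eleven]; decide

theorem center_eq_bot {L : Type u} [Group L] (h : Cfsg.Spor.IsoHS L) : Subgroup.center L = ⊥ := by
  obtain ⟨D⟩ := exists_mod h
  have hs := simple h
  rcases (inferInstance : (Subgroup.center L).Normal).eq_bot_or_eq_top with h1 | h1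
  · exact h1
  · exfalso
    have h0 : Subgroup.centralizer ({D.z} : Set L) = ⊤ := by
      rw [eq_top_iff]
      intro x _
      rw [Subgroup.mem_centralizer_singleton_iff]
      have h3 : D.z ∈ Subgroup.center L := by rw [h1]; exact Subgroup.mem_top _
      exact Subgroup.mem_center_iff.1 h3 x
    have h2 := D.card_centralizer
    rw [h0, Subgroup.card_top, D.card] at h2
    exact absurd h2 (by norm_num)

theorem rk {L : Type u} [Group L] (h : Cfsg.Spor.IsoHS L) : Rk.RK.{v} L 8 := by
  obtain ⟨D⟩ := exists_mod h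
  have hfin := D.finite
  have h1 := Rk.card_mulAut (center_eq_bot h) (index_inn h)
  rw [D.card] at h1
  refine Rk.rk_of_elt (e := 10) (k := 3) ?_ (gL D) (orderOf_g D) (by norm_num)
  rw [h1]
  have h2 : (2 * 44352000 : ℕ) = 2 ^ 10 * 86625 := by norm_num
  rw [h2, Nat.factorization_mul (by norm_num) (by norm_num), Nat.Prime.factorization_pow Nat.prime_two,
    Finsupp.add_apply, Finsupp.single_eq_same, Nat.factorization_eq_zero_of_not_dvd (by norm_num)]

theorem dead {L : Type u} [Group L] (h : Cfsg.Spor.IsoHS L) : Dead2.{u} L :=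
  have : Finite L := (exists_mod h).elim fun D => D.finite
  Dead2.of_lb (LB.of_heis (lb h)) (RK.of_rk (center_eq_bot h) (rk h)) (by norm_num)

/-- **the row `HS` of TABLE 2F** -/
theorem row (L : Type u) [Group L] (h : Cfsg.Spor.IsoHS L) : Kill2.{u} L :=
  have := simple h
  (dead h).kill (center_eq_bot h) inferInstance

end Cfsg.Agent.Omega.TwoF.RowHS

end

end

private theorem dce_47038a79bde7 : _root_.True := by
  try have : _root_.True := by simp only [_root_.Cfsg.Agent.Omega.TwoF.RowHN.ex.eq_2]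
  try have : _root_.True := by simp only [_root_.Cfsg.Agent.Omega.TwoF.RowHS.gL.eq_1]
  try have : _root_.True := by simp only [_root_.Cfsg.Agent.Omega.TwoF.RowHN.ex.eq_def]
  try have : _root_.True := by simp only [_root_.Cfsg.Agent.Omega.TwoF.RowHS.xL.eq_1]
  try have : _root_.True := by simp only [_root_.Cfsg.Agent.Omega.TwoF.RowHS.zL.eq_1]
  try have : _root_.True := by simp only [_root_.Cfsg.Agent.Omega.TwoF.RowHN.wr.eq_1]
  try have : _root_.True := by simp only [_root_.Cfsg.Agent.Omega.TwoF.RowHN.ex.eq_1]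
  try have : _root_.True := by simp only [_root_.Cfsg.Agent.Omega.TwoF.RowHS.yL.eq_1]
  try have : _root_.True := by simp only [_root_.Cfsg.Agent.Omega.TwoF.RowHN.pw.eq_1]
  try have : _root_.True := by simp only [_root_.Cfsg.Agent.Omega.TwoF.RowHS.zw.eq_1]
  try have : _root_.True := by simp only [_root_.Cfsg.Agent.Omega.TwoF.RowHN.sE.eq_1]
  exact _root_.True.intro
end

-- part: Omega/TwoF/RowCo3
section
set_option linter.all false
open scoped Cfsg.Agent.FastGrp

/-!
# TABLE 2F, row `Co3` (helper828)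

`LB 20` through an explicit `5^{1+2}`, `RK 8` through an element of order 8.
-/

set_option autoImplicit false
set_option Elab.async false

namespace Cfsg.Agent.Omega.TwoF.RowCo3

open Cfsg.Agent.SporadicStructure.PermChain Cfsg.Agent.McLType.Chain Cfsg.Agent.Schreier.CoThreeGens
open Cfsg.Agent.KFacts.MulSpor.CoThreeTab Cfsg.Agent.KFacts.MulSpor.CoThree
open Cfsg.Agent.LeechPack.X552 Cfsg.Agent.Schreier.CoThreeCent
open Cfsg.Agent.Omega.Lie.Heis

universe u v w

/-- the central element of `5^{1+2}` -/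
def tz : ℕ := 0x348864b9ef60dad6ba0a70a0b471803620c881e17205752de6278bb85dfc6f454391702c42c359df0a5a713d820a88b3aded4ec0417521399948080f08d71140c41dd1e1cd842990c87503149692bc926a0377895e0c8b82506454ddb1c0ff085651896b0791839d7a7ac3316d1d620084f83f1c8744c8aa2b01a0349a7c83d07c1377607630ea5f8cc641983f4f63d1723e18b3ed101a082734cb4380b444bd3e9f81b8df7e8f038c221bd77234f20f9cb658d06a99b43538699a359a2141dc60d1d6591e08583171d9767dc06f9296b0a1724a84016d6c615265990d96105dbc6819e509d989d045b8ce5cdee738f77dda4748e07697440a127914619a24454b2524bf6154c7951f575f978d56214752adff4d8965814a5393f315542b8588641957d2251526541b64e59244dd4549ec2286c63e2580d587798780078301ba845a9879ab536225693a8989d84d2b79dd14d20f712017721b0304b09863060f3158403f014628013b4cd014da1f0091f8161b5676bc272804933c24008986ed9d0ecd514d14254ee1c4d7404e2414c88380e73d7934d623a0d9374c7644f10a17c6c9a2344440b8ca4204236ca25a0de5d51200dc138443055252cc4d51c5520c304c0590e4b4564b948c00138e5224871ae10319f12398e048762e9275fc5e6187b3f86919c88240607d81111cc3145f318520018c1210813bd1a2307d55c91171e94d59a2c1b8815444dc2d521b90bd2d5a916871195705a695bf45d2c2712f2d5334c52a23c9756ca94f49b0804a852087a8356361a8357b5f4f56cdb57a0e987c9f429cc7d03c2b54043e092f1c530a064a1b7130d470d935bdf5324457c07f655782f9d54900a46d8128db4425b058dd72da048602524d41419ca88cec0e93c671fd295d8201fe121517ed762dd4374c6a0ac105b189104dc7405f1180706d4f29d0b07065074791e8a40e0f968555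
/-- an element of order 5 -/
def tx : ℕ := 0x89e25849f964a006321763a08829dc5e223845f65e8f873587729ff75224869f863d8377dc8656106518644dec78e0b75619790ef7d5ef5f621879883cd85731f184dc28157b8098a882147860d7d1f370dc779626745e25c5ce7f21c76d7f6017281e1b7a1d964e228617771203661798758d609d77761572cf67f9d087dc65d4fb779fa831743f4f583e01819e73f9d88258b3d1893e9d67b4f27c11274df265dcf43d91641963e4f0445737dd7674a04768eb331656c1ae395b937dbd5a9b642970591696ccd0669ba6a5b168d03670ff6fdaf3716e6d5ad3b563680d432d626896b67dbe5bcda410ec36109390de438dd678e06d0e23294c47c86569521b07b541594993f554bf4852546946238752e95f4f883558c1539444f5584806f49c815511c1ad405791b4e4822312231867300701fd60544bb1f48a504801f05e4d819198412ad2b298394c03d0a82c11d1728c620443c2a43e7a57e7ae1671584441e07edfd7a8f77b9813f17c799c1838f1725ab69ce6675aa5b0d631da86dd67701614159b694ee430c939dbc42cd3699006e10733cea38cd9598d1690e93216d6c9993850d409065a0d23a101338d76b1bb354cd6850836d5d5147351c8952919525434794f4ed23534b81a4882f0853155c54c873113a1e8722e54b1e0684a08b490841d87e1b48d55c742f8c32dd1d1c4bd1a9481b9421e4773095b4f04d08c552c4302d1164dd2e2449725918160900d454454374d43a1452d279332701e13d2910021098184c92a2cc1b0b4494b0b21840815c294c45c0484a140a52680a2b88f090632c00f014941383f030202d4a72a04c02c2b164b61145600442180640d0330684604c07274252b022194140d85b2893427c09018aa0e0324e04303852070440ed142849305c9217c48290980bc0d00c530a05d2805a4bcad0c416010af12c1d07c990409b09c950b81500800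
/-- an element of order 5 -/
def ty : ℕ := 0x6f1595595a88e1720922301f94d9265e0624f83d8005e829512a55f4ad53758644921a80a2281a0b81ca24de134aa245aa15899fe6bd5d1e9945706542943124b556d332d1f52c8fb52c7447823310a171de35152e4b4c52f85c2c48f161d355d775c11476dbd62a197c9b487132184fe2a8a77cdbf251ed16dec138ff1c83002609509be461917e1d588531622146c1a012842655122d9b97202b090eb79cac2200825cda7e996379a26d9d818c380cc9a5958f805d265d38739a35b9ae7c1346ea0f1148d2a20d745164e85060c9e05da97840f0298b0fe20439da5ad9c120dd360222ba0c5d0e05904386db1294ec15d040d96f678df3c93f895584952150208579ff481544f6123187b20144239551d51f0b0ba518ab000bf20d601f18e734474c12730439218674e59223141299ca45c81105501c14c1bd1a5e9f60443c4711b548f853a11198a32ec8a1b1d461c7d0a98c7707f0643e7a60e6a04b26dfd6a8a014dbb6756c611c1058d94bcd54310b7ae160c4ad435b836db735de669910175813999b254ee701a17b966400f77805a265ab31da45a2275f0e15b5fb421b23499938da76b161054ea34d070a0c907ce74190233c023a135520892e1f148dd04ed821d80c790c351cb306d798154f529df22cbc1351901de82721d860461fa10624a475ced444560697f669e20606d3cc371e4b9210593bc9015426260c2635f47bdc413c71215492442d5359087d9f5ec404f2037f05f1b97145492795dd21c7704c9f3d8061482f2590f1a4e507a1e7ddb54a1d90edcc0e9931a0346017d4a5c63d40b1cc350389d1a84c44cb72c0d0151cf6617672d69588fa3e4e21106061963811096ccdc4b1750c9733d0cc5c9de3911d708cb24dad328780a401048bd00cfd050f06142007021014250350370c51350fc3217e3581d724277a8e9714af404f10b967415a504004334d13386b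
/-- an element of order 8 -/
def tg : ℕ := 0x7dde8501dc2de05818a452a1880df6445f82d9b57f9a04155e899ac2ad282f1cc1c0806850f8957d3dd5a8446b275757280e535c676425504f9545d27108a411292f4a386c6f84d7923a0938992885ef821d745db382a1f285cd5b95832d4856c07320c67a9f56448453cb826054481c12b54b0b9dd4d60e6bd82875aa159b481dc92c1f43b11264de73f55034604601137780b329ee785023a5ff6fa27789c0659b06b5fd14cfc77d0d694c36c8ac432243b5764f4c273ca80d2013e03a5094e7086e30043549da24c3e58223379ba2999f661a485c7e4c45f858c442154248a27c4644c9fb231004260c035b14d1cb5a60b439f22bce36ed551e42d760412fdc7835c520497530d450c2b2e89f5c9396698e42a220de124d9ec68947281d0225e34cc094b4905b1592ccef850c56ac9c40d0680051841bf3ac5942deb6a13f048a9499d54b0c16709e4dddb11c9b061576f4e17949a6d8b45cc71634425186a3420f631e0130f06248b598fb149015fa153a07f0f11c7393c1a017758274852462c7c588134e174338bb65cfa878f41119e15d87380850ecf1055f00151d2648d3b8b56216d7f0e454cdb641a61881a181687984f7e9ae3486c511780d519070be170f31da1a06d1e49d9b0b0f570c366159534d1f58c11720f66a41020c8f221811b549010c77a594134d5791676e465364e57b52f099f35fc58594ea2c53a00d1b5ec7559082468484add40a87a1dc9119c45000690a13e494460e55d87049450a708d5635d2a100944553b0cd77178201cdd11f40a29478064f2129f93717a1990774d8f5bcd868c960c83d5855f880cc37d5c33cb9169860201d1d1101401f0e00625545079992b8146e00c6116a3f92367463154d64b8e68084e184da8645d2c98a6f016335302a8024608669db716d6b3fd7c1ec013252221c291c9710bd160c42403cdd60c210897012ce70fc30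

theorem in_z : InK 10 K0 tz := InK.word inLL (l := [4, 4, 0, 7, 6, 7, 7, 8, 5, 5, 12, 12, 9, 9, 10, 14, 13, 13, 14, 15, 15, 16, 22]) (by decide +kernel)
theorem in_x : InK 10 K0 tx := InK.word inLL (l := [0, 1, 0, 0, 2, 0, 8, 7, 6, 5, 9, 12, 9, 9, 15, 15, 14, 13, 14, 13, 13, 13, 20, 19, 18, 16, 22]) (by decide +kernel)
theorem in_y : InK 10 K0 ty := InK.word inLL (l := [3, 2, 0, 4, 4, 2, 0, 8, 5, 5, 5, 5, 12, 12, 9, 9, 10, 14, 13, 13, 14, 18, 19, 20, 16]) (by decide +kernel)
theorem in_g : InK 10 K0 tg := InK.word inLL (l := [0, 4, 1, 2, 4, 1, 2, 2, 0, 4, 2, 4, 0, 4, 1, 2, 4, 1, 2, 2, 0, 4, 2, 4, 0, 4, 1, 2, 4, 1, 2, 2, 0, 4, 2, 4]) (by decide +kernel)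

/-- the tables -/
def U : List ℕ := [tz, tx, ty, tg]

theorem inU : ∀ t ∈ U, InK 10 K0 t := by
  intro t ht
  simp only [U, List.mem_cons, List.not_mem_nil, or_false] at ht
  rcases ht with rfl | rfl | rfl | rfl
  · exact in_z
  · exact in_x
  · exact in_y
  · exact in_g

/-- both words (in the tables `U`) have the same values -/
def sameU (l l' : List ℕ) : Bool :=
  (l.all fun s => Nat.blt s 4) && (l'.all fun s => Nat.blt s 4) &&
    allBelow (fun p => Nat.beq (evalWord 10 U l p) (evalWord 10 U l' p)) 552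

/-- the elements -/
noncomputable def u (k : ℕ) : K0 := el inU k

theorem relU {l l' : List ℕ} (h : sameU l l' = true) : (l.map u).prod = (l'.map u).prod := by
  unfold sameU at h
  rw [Bool.and_eq_true, Bool.and_eq_true, List.all_eq_true, List.all_eq_true] at h
  exact prod_eq inU (fun s hs => blt_of (h.1.1 s hs)) (fun s hs => blt_of (h.1.2 s hs)) h.2

theorem c1 : sameU [0, 0, 0, 0, 0] [] = true := by decide +kernel
theorem c2 : sameU [1, 1, 1, 1, 1] [] = true := by decide +kernel
theorem c3 : sameU [0, 1] [1, 0] = true := by decide +kernel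
theorem c4 : sameU [0, 2] [2, 0] = true := by decide +kernel
theorem c5 : sameU [2, 1] [1, 0, 2] = true := by decide +kernel
theorem c6 : sameU [3, 3, 3, 3, 3, 3, 3, 3] [] = true := by decide +kernel
theorem n1 : Nat.beq (look 10 tz 0) 0 = false := by decide +kernel
theorem n2 : Nat.beq (evalWord 10 U [3, 3, 3, 3] 2) 2 = false := by decide +kernel

theorem heis : Heis 5 1 (u 0) (fun _ => u 1) (fun _ => u 2) where
  prime := by norm_num
  zr := by
    have := relU c1
    simp only [List.map_cons, List.map_nil, List.prod_cons, List.prod_nil, mul_one] at this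
    simpa only [pow_succ, pow_zero, one_mul, mul_assoc] using this
  xr := fun _ => by
    have := relU c2
    simp only [List.map_cons, List.map_nil, List.prod_cons, List.prod_nil, mul_one] at this
    simpa only [pow_succ, pow_zero, one_mul, mul_assoc] using this
  zx := fun _ => by
    have := relU c3
    simpa only [List.map_cons, List.map_nil, List.prod_cons, List.prod_nil, mul_one] using this
  zy := fun _ => by
    have := relU c4
    simpa only [List.map_cons, List.map_nil, List.prod_cons, List.prod_nil, mul_one] using this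
  xx := fun _ _ => rfl
  yx := fun i j h => absurd (Subsingleton.elim i j) h
  conj := fun _ => by
    have := relU c5
    simp only [List.map_cons, List.map_nil, List.prod_cons, List.prod_nil, mul_one] at this
    rw [mul_inv_eq_iff_eq_mul, mul_assoc]
    exact this

theorem u0_ne : u 0 ≠ 1 := by
  intro h
  have h1 := el_val inU (k := 0) (by decide) (⟨0, by decide⟩ : Fin 552)
  have h2 : el inU 0 = 1 := h
  rw [h2] at h1
  have h3 : look 10 tz 0 = 0 := h1.symm
  have h4 := n1
  rw [h3] at h4
  exact Bool.noConfusion ((Nat.beq_refl 0).symm.trans h4)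

theorem orderOf_u3 : orderOf (u 3) = 2 ^ 3 := by
  apply orderOf_eq_prime_pow
  · intro h
    change u 3 ^ 4 = 1 at h
    have h1 := prod_val inU [3, 3, 3, 3] (by decide) (⟨2, by decide⟩ : Fin 552)
    have h2 : (([3, 3, 3, 3].map (el inU)).prod : K0) = 1 := by
      simp only [List.map_cons, List.map_nil, List.prod_cons, List.prod_nil, mul_one]
      have h5 : u 3 * (u 3 * (u 3 * u 3)) = 1 := by
        rw [← h, pow_succ, pow_succ, pow_succ, pow_one, mul_assoc, mul_assoc]
      exact h5
    rw [h2] at h1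
    have h3 : evalWord 10 U [3, 3, 3, 3] 2 = 2 := h1.symm
    have h4 := n2
    rw [h3] at h4
    exact Bool.noConfusion ((Nat.beq_refl 2).symm.trans h4)
  · have := relU c6
    simp only [List.map_cons, List.map_nil, List.prod_cons, List.prod_nil, mul_one] at this
    change u 3 ^ 8 = 1
    simpa only [pow_succ, pow_zero, one_mul, mul_assoc] using this

theorem orderOf_two_five : orderOf (2 : ZMod 5) = 4 := by
  refine orderOf_eq_prime_pow (p := 2) (n := 1) ?_ ?_ <;> decide

theorem orderOf_two_23 : orderOf (2 : ZMod 23) = 11 := by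
  have : Fact (Nat.Prime 11) := ⟨by norm_num⟩
  exact orderOf_eq_prime (by decide) (by decide)

/-- every group isomorphic to Co3 is isomorphic to `K0` -/
theorem equivK0 {K : Type*} [Group K] (h : Cfsg.Spor.IsoCo3 K) : Nonempty (K0 ≃* K) := by
  obtain ⟨i⟩ := isoCo3_G3
  obtain ⟨j⟩ := h
  have k : ψ.range ≃* G3 := (MonoidHom.ofInjective ψ_injective).symm
  rw [← K0_eq] at k
  exact ⟨k.trans (i.trans j.symm)⟩

theorem lb {K : Type u} [Group K] (h : Cfsg.Spor.IsoCo3 K) : Cfsg.Agent.Omega.Lie.Heis.LB.{u, v, w} K 20 := by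
  obtain ⟨e⟩ := equivK0 h
  obtain ⟨hs, hc⟩ := Cfsg.Agent.OddHalf.D8.RowCo3.card_of h
  have hfin : Finite K := Nat.finite_of_card_ne_zero (by rw [hc]; norm_num)
  have hh : Heis 5 1 (e (u 0)) (fun _ => e (u 1)) (fun _ => e (u 2)) := by
    have H := heis
    exact {
      prime := H.prime
      zr := by rw [← map_pow, H.zr, map_one]
      xr := fun i => by rw [← map_pow, H.xr i, map_one]
      zx := fun i => by rw [← map_mul, ← map_mul, H.zx i]
      zy := fun i => by rw [← map_mul, ← map_mul, H.zy i]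
      xx := fun _ _ => rfl
      yx := fun i j hij => absurd (Subsingleton.elim i j) hij
      conj := fun i => by rw [← map_inv, ← map_mul, ← map_mul, ← map_mul, H.conj i] }
  refine LB.heis hh (by norm_num) (fun h1 => u0_ne ?_) (p := 23) (by norm_num) (by norm_num) ?_ ?_ ?_
  · exact (MulEquiv.map_eq_one_iff e).1 h1
  · rw [hc]; norm_num
  · rw [orderOf_two_five]; norm_num
  · rw [orderOf_two_five, orderOf_two_23]; decide

theorem rk {K : Type u} [Group K] (h : Cfsg.Spor.IsoCo3 K) : Rk.RK.{v} K 8 := by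
  obtain ⟨e⟩ := equivK0 h
  obtain ⟨hs, hc⟩ := Cfsg.Agent.OddHalf.D8.RowCo3.card_of h
  have hfin : Finite K := Nat.finite_of_card_ne_zero (by rw [hc]; norm_num)
  obtain ⟨z, hz⟩ := Cfsg.Agent.KFacts.Co3.Sheet.exists_facts h
  have hfin' : Finite (MulAut K) := Finite.of_injective (fun f : MulAut K => (f : K → K)) fun a b hab =>
    MulEquiv.ext fun x => congrFun hab x
  have h1 : Nat.card (MulAut K) ∣ Nat.card K := by
    have h2 : (MulAut.conj : K →* MulAut K).range = ⊤ := by
      rw [eq_top_iff]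
      intro α _
      obtain ⟨k, rfl⟩ := hz.inner α
      exact ⟨k, rfl⟩
    have h3 : Nat.card (MulAut K) = 1 * Nat.card K :=
      Rk.card_mulAut (Cfsg.Agent.OddHalf.D8.RowCo3.center_bot h) (by rw [h2, Subgroup.index_top])
    rw [h3, one_mul]
  refine Rk.rk_of_elt (e := 10) (k := 3) ?_ (e (u 3)) ?_ (by norm_num)
  · have h2 : ¬ 2 ^ 11 ∣ Nat.card (MulAut K) := by
      intro h3
      have h4 := h3.trans h1
      rw [hc] at h4
      norm_num at h4
    by_contra hcon
    apply h2
    exact (Nat.prime_two.pow_dvd_iff_le_factorization Nat.card_pos.ne').2 (by omega)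
  · rw [MulEquiv.orderOf_eq, orderOf_u3]

/-- **the row Co3 of TABLE 2F** -/
theorem dead {K : Type v} [Group K] (h : Cfsg.Spor.IsoCo3 K) : Dead2.{u} K := by
  obtain ⟨hs, hc⟩ := Cfsg.Agent.OddHalf.D8.RowCo3.card_of h
  have hfin : Finite K := Nat.finite_of_card_ne_zero (by rw [hc]; norm_num)
  exact RowTool.dead (Cfsg.Agent.OddHalf.D8.RowCo3.center_bot h) (lb h) (rk h) (by norm_num)

end Cfsg.Agent.Omega.TwoF.RowCo3

private theorem dce_e36758db9cc9 : _root_.True := by
  try have : _root_.True := by simp only [_root_.Cfsg.Agent.KFacts.MulSpor.CoThree.el.congr_simp]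
  try have : _root_.True := by simp only [_root_.Cfsg.Agent.Omega.TwoF.RowCo3.U.eq_1]
  exact _root_.True.intro
end
end
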